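import Groth.Agent.QCohGen.Main
import Groth.Agent.FPApproxLib.Colim
import Groth.Agent.FPLocal.HomColim
import Mathlib.CategoryTheory.Presentable.Finite
import Mathlib.CategoryTheory.Presentable.Directed
import Mathlib.CategoryTheory.Limits.Final

/-!
# Finitely presentable quasi-coherent modules
-/

set_option autoImplicit false
set_option linter.style.haveILetI false

universe u

open CategoryTheory CategoryTheory.Limits AlgebraicGeometry TopologicalSpace Opposite

noncomputable section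

namespace Groth.Agent.QCohCompact

variable {X : Scheme.{u}} [CompactSpace X] [QuasiSeparatedSpace X]

theorem cover_cond (X : Scheme.{u}) [CompactSpace X] [QuasiSeparatedSpace X] :
    ∀ (ι : Type u) (V : ι → X.Opens), iSup V = ⊤ →
      ∃ (J : Type u) (_ : Finite J) (U : J → X.Opens), iSup U = ⊤ ∧ (∀ j, ∃ i, U j ≤ V i) ∧
        ∀ j j', IsCompact ((U j ⊓ U j' : X.Opens) : Set X) := by
  intro ι V hV
  have h : ∀ x : X, ∃ W : X.Opens, IsAffineOpen W ∧ x ∈ W ∧ ∃ i, W ≤ V i := fun x => by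
    obtain ⟨i, hi⟩ := Opens.mem_iSup.1 (hV ▸ Opens.mem_top x : x ∈ iSup V)
    obtain ⟨_, ⟨W, hW, rfl⟩, hx, hle⟩ := X.isBasis_affineOpens.exists_subset_of_mem_open hi (V i).2
    exact ⟨W, hW, hx, i, hle⟩
  choose W hW hx hle using h
  obtain ⟨t, ht⟩ := (isCompact_univ (X := X)).elim_finite_subcover (fun x => (W x : Set X)) (fun x => (W x).2)
    fun x _ => Set.mem_iUnion.2 ⟨x, hx x⟩
  refine ⟨t, inferInstance, fun x => W x.1, eq_top_iff.2 fun y _ => ?_, fun j => hle j.1, fun j j' => ?_⟩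
  · obtain ⟨x, hxt, hy⟩ := Set.mem_iUnion₂.1 (ht (Set.mem_univ y))
    exact Opens.mem_iSup.2 ⟨⟨x, hxt⟩, hy⟩
  · exact QuasiSeparatedSpace.inter_isCompact _ _ (W j.1).2 (hW j.1).isCompact (W j'.1).2 (hW j'.1).isCompact

theorem preserves_directed (G : X.Modules) (hG : CohB1.IsFP G) {I : Type u} [Preorder I] [Nonempty I]
    [IsDirected I (· ≤ ·)] (D : I ⥤ X.Modules) : PreservesColimit D (coyoneda.obj (op G)) :=
  @Groth.Agent.FPLocal.preservesColimit_coyoneda X.toTopCat X.sheaf I _ _ _ D (cover_cond X) G hG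

theorem preserves_filtered (G : X.Modules) (hG : CohB1.IsFP G) {J : Type u} [SmallCategory J] [IsFiltered J]
    (K : J ⥤ X.Modules) : PreservesColimit K (coyoneda.obj (op G)) := by
  obtain ⟨α, _, hα, hne, F, _⟩ := IsFiltered.exists_directed J
  haveI := hα
  haveI := hne
  haveI := preserves_directed G hG (F ⋙ K)
  refine preservesColimit_of_preserves_colimit_cocone (colimit.isColimit K) ?_
  exact (Functor.Final.isColimitWhiskerEquiv F _).toFun
    (isColimitOfPreserves (coyoneda.obj (op G))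
      ((Functor.Final.isColimitWhiskerEquiv F _).symm (colimit.isColimit K)))

theorem isFinitelyPresentable_of_isFP (F : QCohCat.QCoh X) (hF : CohB1.IsFP F.obj) :
    IsFinitelyPresentable.{u} F := by
  rw [isFinitelyPresentable_iff_preservesFilteredColimitsOfSize]
  refine ⟨fun J _ _ => ⟨fun {K} => ?_⟩⟩
  let ι := (QCohCat.isQCoh X).ι
  let e : coyoneda.obj (op F) ≅ ι ⋙ coyoneda.obj (op F.obj) :=
    NatIso.ofComponents (fun G => ((QCohCat.isQCoh X).fullyFaithfulι.homEquiv (X := F) (Y := G)).toIso) (fun f => rfl)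
  haveI := preserves_filtered F.obj hF (K ⋙ ι)
  haveI : PreservesColimit K ι := inferInstance
  exact preservesColimit_of_natIso K e.symm

omit [CompactSpace X] [QuasiSeparatedSpace X] in
theorem isFP_of_retract {P F : X.Modules} [Coh.IsQCoh P] [Coh.IsQCoh F] (hP : CohB1.IsFP P)
    (r : P ⟶ F) (σ : F ⟶ P) (h : σ ≫ r = 𝟙 F) : CohB1.IsFP F := by
  refine FPApproxLib.isFP_of_fpOn fun x hx => ?_
  obtain ⟨_, ⟨T, hT, rfl⟩, hxT, -⟩ := X.isBasis_affineOpens.exists_subset_of_mem_open hx (⊤ : X.Opens).2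
  haveI := QCohLib.finitePresentation_sections P hP hT
  refine ⟨T, hT, hxT, le_top, ?_⟩
  let l := QCohLib.appLinear r T
  let m := QCohLib.appLinear σ T
  have hlm : ∀ s, l (m s) = s := fun s => congrArg (fun φ : F ⟶ F => φ.app T s) h
  refine Module.finitePresentation_of_surjective l (fun s => ⟨m s, hlm s⟩) ?_
  have hk : LinearMap.ker l = LinearMap.range (LinearMap.id - m.comp l) := by
    ext s
    refine ⟨fun hs => ⟨s, ?_⟩, fun hs => ?_⟩
    · simp [LinearMap.mem_ker.1 hs]
    · obtain ⟨t, rfl⟩ := hs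
      simp [hlm]
  rw [hk, LinearMap.range_eq_map]
  exact Module.Finite.fg_top.map _

open FPApproxLib SubLib in
theorem isFT_of_isFinitelyPresentable (F : QCohCat.QCoh X) [IsFinitelyPresentable.{u} F] :
    CohB1.IsFT F.obj := by
  haveI hFq : Coh.IsQCoh F.obj := F.property
  let J : Type u := {N : StalkSub F.obj // Good N ⊤}
  have hG : ∀ i : J, ∀ x : X, ∃ W : X.Opens, IsAffineOpen W ∧ x ∈ W ∧ GenOn i.1 W := fun i x => by
    obtain ⟨W, hW, hx, -, h⟩ := i.2 x trivial
    exact ⟨W, hW, hx, h⟩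
  letI : PartialOrder J := inferInstanceAs (PartialOrder {N : StalkSub F.obj // Good N ⊤})
  haveI : IsDirected J (· ≤ ·) :=
    ⟨fun a b => ⟨⟨fun z => a.1 z ⊔ b.1 z, ProjBundleLib.good_sup a.2 b.2⟩, fun z => le_sup_left, fun z => le_sup_right⟩⟩
  haveI : Nonempty J := ⟨⟨fun _ => ⊥, ProjBundleLib.good_bot ⊤⟩⟩
  have hmem : ∀ (W : X.Opens), IsAffineOpen W → ∀ s : Γ(F.obj, W), ∃ i : J, s ∈ SubLib.sec i.1 W := fun W hW s => by
    obtain ⟨N₀, h₀, hs⟩ := SubLib.exists_good_section hW s
    obtain ⟨N, hN, hgood⟩ := SubLib.exists_good_qcqs hW.isCompact h₀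
    refine ⟨⟨N, hgood⟩, fun z hz => ?_⟩
    show _ ∈ N z
    rw [hN z hz]
    exact hs z hz
  have hq : ∀ i : J, Coh.IsQCoh (cokernel (subι i.1)) := fun i =>
    (QCohLib.isQCoh_image (subι i.1) (isQCoh_subMod i.1 (hG i)) hFq).2
  have hle : ∀ {i j : J}, i ≤ j → subι i.1 ≫ cokernel.π (subι j.1) = 0 := fun {i j} h => by
    refine Scheme.Modules.hom_ext _ _ fun U => ConcreteCategory.hom_ext _ _ fun x => ?_
    have hs : (subι i.1).app U x ∈ SubLib.sec j.1 U := fun z hz => h z (mem_sec_of_app i.1 U x z hz)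
    exact (congrArg (fun φ : subMod j.1 ⟶ cokernel (subι j.1) => φ.app U (⟨_, hs⟩ : SubLib.sec j.1 U))
      (cokernel.condition (subι j.1)) :)
  let D : J ⥤ QCohCat.QCoh X :=
    { obj := fun i => ⟨cokernel (subι i.1), hq i⟩
      map := fun {i j} h => ⟨cokernel.desc _ (cokernel.π (subι j.1)) (hle (leOfHom h))⟩
      map_id := fun i => by
        apply ObjectProperty.hom_ext
        refine (cancel_epi (cokernel.π (subι i.1))).1 ?_
        simp
      map_comp := fun {i j k} f g => by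
        apply ObjectProperty.hom_ext
        refine (cancel_epi (cokernel.π (subι i.1))).1 ?_
        simp }
  let c := colimit.cocone D
  let p : ∀ i : J, F ⟶ D.obj i := fun i => ⟨cokernel.π (subι i.1)⟩
  have hp : ∀ {i j : J} (h : i ⟶ j), p i ≫ D.map h = p j := fun {i j} h => by
    apply ObjectProperty.hom_ext
    exact cokernel.π_desc _ _ _
  obtain ⟨i₀⟩ := ‹Nonempty J›
  have hzero : p i₀ ≫ colimit.ι D i₀ = 0 := by
    apply ObjectProperty.hom_ext
    refine FPApproxLib.hom_ext_opens _ _ X.affineOpens (fun W => W.1) (fun W => W.2)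
      (QCohLib.iSup_affineOpens_eq_top X) fun W s => ?_
    obtain ⟨i, hi⟩ := hmem W.1 W.2 s
    obtain ⟨k, hik, h0k⟩ := exists_ge_ge i i₀
    have h1 : p i₀ ≫ colimit.ι D i₀ = p i ≫ colimit.ι D i := by
      rw [← colimit.w D (homOfLE hik), ← colimit.w D (homOfLE h0k), ← Category.assoc, hp, ← Category.assoc, hp]
    rw [h1]
    have hs : (cokernel.π (subι i.1)).app W.1 s = 0 :=
      (congrArg (fun φ : subMod i.1 ⟶ cokernel (subι i.1) => φ.app W.1 (⟨s, hi⟩ : SubLib.sec i.1 W.1))
        (cokernel.condition (subι i.1)) :)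
    exact (congrArg ((colimit.ι D i).hom.app W.1) hs).trans (map_zero _)
  haveI : PreservesColimit D (coyoneda.obj (op F)) :=
    haveI := (isFinitelyPresentable_iff_preservesFilteredColimitsOfSize (X := F)).1 inferInstance
    haveI : IsFiltered J := inferInstance
    (PreservesFilteredColimitsOfSize.preserves_filtered_colimits J).preservesColimit
  obtain ⟨j, f, g, hfg⟩ := (Types.FilteredColimit.isColimit_eq_iff (F := D ⋙ coyoneda.obj (op F))
    (isColimitOfPreserves (coyoneda.obj (op F)) (colimit.isColimit D))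
    (xi := p i₀) (xj := (0 : F ⟶ D.obj i₀))).1 (by
      show p i₀ ≫ colimit.ι D i₀ = 0 ≫ colimit.ι D i₀
      rw [hzero, zero_comp])
  change p i₀ ≫ D.map f = (0 : F ⟶ D.obj i₀) ≫ D.map g at hfg
  rw [hp, zero_comp] at hfg
  have hπ : cokernel.π (subι j.1) = 0 := congrArg (fun φ => φ.hom) hfg
  haveI : Mono (subι j.1) := by
    refine Preadditive.mono_of_cancel_zero _ fun {Z} a ha => Scheme.Modules.hom_ext _ _ fun U => ?_
    ext z
    exact subι_app_injective j.1 U
      ((congrArg (fun φ : Z ⟶ F.obj => φ.app U z) ha).trans (map_zero _).symm)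
  haveI : Epi (subι j.1) := Abelian.epi_of_cokernel_π_eq_zero _ hπ
  haveI : IsIso (subι j.1) := isIso_of_mono_of_epi _
  haveI := isQCoh_subMod j.1 (hG j)
  refine QCohLib.isFiniteType_of_finite F.obj (fun W : X.affineOpens => W.1) (fun W => W.2)
    (QCohLib.iSup_affineOpens_eq_top X) fun W => ?_
  haveI := QCohLib.finite_sections (subMod j.1) (isFT_subMod j.1 (hG j)) W.2
  refine Module.Finite.of_surjective (QCohLib.appLinear (subι j.1) W.1) fun s => ?_
  exact ⟨(inv (subι j.1)).app W.1 s,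
    congrArg (fun φ : F.obj ⟶ F.obj => φ.app W.1 s) (IsIso.inv_hom_id (subι j.1))⟩

theorem isFP_of_isFinitelyPresentable (F : QCohCat.QCoh X) [IsFinitelyPresentable.{u} F] :
    CohB1.IsFP F.obj := by
  haveI : Coh.IsQCoh F.obj := F.property
  obtain ⟨P, π, hP, hfp, hepi⟩ := FPApproxLib.exists_fp_epi F.obj (isFT_of_isFinitelyPresentable F)
  haveI := hP
  haveI := hepi
  haveI : Coh.IsQCoh (kernel π) := (QCohLib.isQCoh_image π hP F.property).1
  obtain ⟨hcol⟩ := FPApproxLib.isColimit π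
  have hq : ∀ i, Coh.IsQCoh ((FPApproxLib.diag π).obj i) := fun i => by
    have hG : ∀ x : X, ∃ W : X.Opens, IsAffineOpen W ∧ x ∈ W ∧ SubLib.GenOn i.1 W := fun x => by
      obtain ⟨W, hW, hx, -, h⟩ := i.2 x trivial
      exact ⟨W, hW, hx, h⟩
    exact (QCohLib.isQCoh_image (FPApproxLib.rel π i) (SubLib.isQCoh_subMod i.1 hG) hP).2
  let D : FPApproxLib.Idx π ⥤ QCohCat.QCoh X := (QCohCat.isQCoh X).lift (FPApproxLib.diag π) hq
  let c : Cocone D :=
    { pt := F
      ι :=
        { app := fun i => ⟨(FPApproxLib.cocone π).app i⟩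
          naturality := fun i j h => ObjectProperty.hom_ext _ ((FPApproxLib.cocone π).naturality h) } }
  have hc : IsColimit c := by
    haveI : ReflectsColimit D (QCohCat.isQCoh X).ι := inferInstance
    exact isColimitOfReflects (QCohCat.isQCoh X).ι hcol
  haveI : IsDirected (FPApproxLib.Idx π) (· ≤ ·) := FPApproxLib.isDirected π
  haveI : Nonempty (FPApproxLib.Idx π) := ⟨⟨fun _ => ⊥, ProjBundleLib.good_bot ⊤⟩⟩
  haveI : IsFiltered (FPApproxLib.Idx π) := inferInstance
  haveI := (isFinitelyPresentable_iff_preservesFilteredColimitsOfSize (X := F)).1 inferInstance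
  haveI : PreservesColimit D (coyoneda.obj (op F)) :=
    (PreservesFilteredColimitsOfSize.preserves_filtered_colimits (FPApproxLib.Idx π)).preservesColimit
  obtain ⟨i, σ, hσ⟩ := Types.jointly_surjective_of_isColimit (isColimitOfPreserves (coyoneda.obj (op F)) hc) (𝟙 F)
  haveI : Coh.IsQCoh (cokernel (FPApproxLib.rel π i)) := hq i
  exact isFP_of_retract (FPApproxLib.isFP_obj π hfp i) ((FPApproxLib.cocone π).app i) σ.hom
    (congrArg (fun φ => φ.hom) hσ)

end Groth.Agent.QCohCompact
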